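import Mathlib
import Groth.Prelude.Def_PBC

/-!
# A directed union of étale subalgebras is ind-étale (helper29)

Adapted from `Groth.Agent.Lib.Helper36.WeaklyEtaleInd` (there for finitely generated subalgebras).
-/

set_option autoImplicit false
universe u

namespace Groth.Agent.Lib.Helper29.InertiaInd

open CategoryTheory CategoryTheory.Limits

section DirectedUnion

variable (K B : Type u) [CommRing K] [CommRing B] [Algebra K B] (P : Subalgebra K B → Prop)

/-- index: subalgebras with property `P` -/
abbrev PSub := {S : Subalgebra K B // P S}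

variable {K B P}

/-- the diagram of the subalgebras -/
noncomputable def pDiagram : PSub K B P ⥤ Under (CommRingCat.of K) where
  obj S := Under.mk (CommRingCat.ofHom (algebraMap K S.1))
  map {S T} h := Under.homMk (CommRingCat.ofHom (Subalgebra.inclusion (leOfHom h)).toRingHom)
    (by ext; rfl)
  map_id S := by ext; rfl
  map_comp f g := by ext; rfl

/-- the cocone of the subalgebras -/
noncomputable def pCocone : Cocone (pDiagram (K := K) (B := B) (P := P)) where
  pt := Under.mk (CommRingCat.ofHom (algebraMap K B))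
  ι :=
    { app := fun S => Under.homMk (CommRingCat.ofHom S.1.val.toRingHom) (by ext; rfl)
      naturality := fun S T h => by ext; rfl }

/-- the algebra maps out of the subalgebras defined by a cocone -/
noncomputable def coconeAlgHom (s : Cocone (pDiagram (K := K) (B := B) (P := P)))
    (S : PSub K B P) :
    letI := s.pt.hom.hom.toAlgebra
    S.1 →ₐ[K] s.pt.right :=
  letI := s.pt.hom.hom.toAlgebra
  { toRingHom := (s.ι.app S).right.hom
    commutes' := fun r => ConcreteCategory.congr_hom (Under.w (s.ι.app S)) r }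

lemma coconeAlgHom_compat (s : Cocone (pDiagram (K := K) (B := B) (P := P)))
    (S T : PSub K B P) (h : S.1 ≤ T.1) :
    letI := s.pt.hom.hom.toAlgebra
    coconeAlgHom s S = (coconeAlgHom s T).comp (Subalgebra.inclusion h) := by
  let := s.pt.hom.hom.toAlgebra
  ext x
  have := s.w (homOfLE (show S ≤ T from h))
  have h2 := congrArg (fun m => m.right.hom x) this
  exact h2.symm

section

variable (hdir : ∀ S₁ S₂, P S₁ → P S₂ → ∃ S, P S ∧ S₁ ≤ S ∧ S₂ ≤ S)
  (hcov : ∀ e : B, ∃ S, P S ∧ e ∈ S) [Nonempty (PSub K B P)]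

include hdir hcov

omit hcov [Nonempty (PSub K B P)] in
lemma pSub_directed : Directed (· ≤ ·) (fun S : PSub K B P => S.1) := by
  intro S T
  obtain ⟨U, hU, h1, h2⟩ := hdir S.1 T.1 S.2 T.2
  exact ⟨⟨U, hU⟩, h1, h2⟩

omit hdir [Nonempty (PSub K B P)] in
lemma top_le_iSup_pSub : (⊤ : Subalgebra K B) ≤ iSup (fun S : PSub K B P => S.1) := by
  intro b _
  obtain ⟨S, hS, hb⟩ := hcov b
  exact (le_iSup (fun S : PSub K B P => S.1) ⟨S, hS⟩) hb

/-- the induced map out of `B` -/
noncomputable def coconeDesc (s : Cocone (pDiagram (K := K) (B := B) (P := P))) :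
    letI := s.pt.hom.hom.toAlgebra
    B →ₐ[K] s.pt.right :=
  letI := s.pt.hom.hom.toAlgebra
  (Subalgebra.iSupLift (fun S : PSub K B P => S.1) (pSub_directed hdir) (coconeAlgHom s)
    (fun S T h => coconeAlgHom_compat s S T h) ⊤ (top_le_iSup_pSub hcov)).comp
    Subalgebra.topEquiv.symm.toAlgHom

lemma coconeDesc_apply (s : Cocone (pDiagram (K := K) (B := B) (P := P))) (S : PSub K B P)
    (x : S.1) : coconeDesc hdir hcov s x.1 = coconeAlgHom s S x := by
  let := s.pt.hom.hom.toAlgebra
  have := Subalgebra.iSupLift_inclusion (K := fun S : PSub K B P => S.1)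
    (dir := pSub_directed hdir)
    (f := coconeAlgHom s) (hf := fun S T h => coconeAlgHom_compat s S T h) (T := ⊤)
    (hT := top_le_iSup_pSub hcov) (i := S) x le_top
  exact this

/-- ring hom version of `coconeDesc` -/
noncomputable def coconeDescRingHom (s : Cocone (pDiagram (K := K) (B := B) (P := P))) :
    B →+* s.pt.right :=
  letI := s.pt.hom.hom.toAlgebra
  (coconeDesc hdir hcov s).toRingHom

lemma coconeDescRingHom_algebraMap (s : Cocone (pDiagram (K := K) (B := B) (P := P))) (r : K) :
    coconeDescRingHom hdir hcov s (algebraMap K B r) = s.pt.hom.hom r := by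
  let := s.pt.hom.hom.toAlgebra
  exact (coconeDesc hdir hcov s).commutes r

lemma coconeDescRingHom_apply (s : Cocone (pDiagram (K := K) (B := B) (P := P)))
    (S : PSub K B P) (x : S.1) :
    coconeDescRingHom hdir hcov s x.1 = (s.ι.app S).right.hom x :=
  coconeDesc_apply hdir hcov s S x

/-- `B` is the colimit of the subalgebras. -/
noncomputable def pIsColimit : IsColimit (pCocone (K := K) (B := B) (P := P)) where
  desc s := Under.homMk (CommRingCat.ofHom (coconeDescRingHom hdir hcov s)) (by
    ext r
    exact coconeDescRingHom_algebraMap hdir hcov s r)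
  fac s S := by
    ext x
    exact coconeDescRingHom_apply hdir hcov s S x
  uniq s m hm := by
    have key : ∀ b : B, m.right.hom b = coconeDescRingHom hdir hcov s b := by
      intro b
      obtain ⟨S0, hS0, hb⟩ := hcov b
      let S : PSub K B P := ⟨S0, hS0⟩
      let x : S.1 := ⟨b, hb⟩
      have h1 := congrArg (fun f => f.right.hom x) (hm S)
      have h2 := coconeDescRingHom_apply hdir hcov s S x
      exact h1.trans h2.symm
    ext b
    exact key b

end

theorem isIndEtale_of_directed_subalgebras
    (hdir : ∀ S₁ S₂, P S₁ → P S₂ → ∃ S, P S ∧ S₁ ≤ S ∧ S₂ ≤ S)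
    (hcov : ∀ e : B, ∃ S, P S ∧ e ∈ S) (hne : ∃ S, P S)
    (het : ∀ S, P S → Algebra.Etale K S) : EtPBC.IsIndEtale K B := by
  obtain ⟨S0, hS0⟩ := hne
  haveI : Nonempty (PSub K B P) := ⟨⟨S0, hS0⟩⟩
  haveI : IsDirected (PSub K B P) (· ≤ ·) :=
    ⟨fun S T => by
      obtain ⟨U, hU, h1, h2⟩ := hdir S.1 T.1 S.2 T.2
      exact ⟨⟨U, hU⟩, h1, h2⟩⟩
  haveI : IsFiltered (PSub K B P) := isFiltered_of_directed_le_nonempty _
  refine ⟨PSub K B P, inferInstance, inferInstance, pDiagram, pCocone, pIsColimit hdir hcov,
    fun S => ?_, ⟨Iso.refl _⟩⟩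
  have h1 : Algebra.Etale K S.1 := het S.1 S.2
  have h2 : ((pDiagram (K := K) (B := B) (P := P)).obj S).hom.hom.toAlgebra =
      (inferInstance : Algebra K S.1) :=
    Algebra.algebra_ext _ _ (fun r => rfl)
  rw [h2]
  exact h1

end DirectedUnion

end Groth.Agent.Lib.Helper29.InertiaInd
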