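import Mathlib
import Groth.Prelude.Def_PBC
import Groth.Agent.Lib.Helper29.InertiaInd.DirectedUnion

/-!
# Localisation at a prime of a directed union of subalgebras which are étale near the prime
(helper29)
-/

set_option autoImplicit false
universe u

namespace Groth.Agent.Lib.Helper29.InertiaInd

section Away

theorem etale_away_mul {A T : Type u} [CommRing A] [CommRing T] [Algebra A T] (g h' : T)
    [Algebra.Etale A (Localization.Away g)] : Algebra.Etale A (Localization.Away (h' * g)) := by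
  have h3 : IsLocalization.Away (h' * g)
      (Localization.Away (algebraMap T (Localization.Away g) h')) := inferInstance
  let e : Localization.Away (algebraMap T (Localization.Away g) h') ≃ₐ[T]
      Localization.Away (h' * g) :=
    IsLocalization.algEquiv (Submonoid.powers (h' * g)) _ _
  have : Algebra.Etale A (Localization.Away (algebraMap T (Localization.Away g) h')) :=
    Algebra.Etale.comp A (Localization.Away g) _
  exact Algebra.Etale.of_equiv (e.restrictScalars A)

end Away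

section Main

variable {A C : Type u} [CommRing A] [CommRing C] [IsDomain C] [Algebra A C]
  (p : Ideal C) [p.IsPrime]

/-- the map from a subalgebra to the localisation -/
noncomputable def toLoc (T : Subalgebra A C) : T →ₐ[A] Localization.AtPrime p :=
  (IsScalarTower.toAlgHom A C (Localization.AtPrime p)).comp T.val

theorem toLoc_apply (T : Subalgebra A C) (t : T) :
    toLoc p T t = algebraMap C (Localization.AtPrime p) (t : C) := rfl

theorem algebraMap_loc_injective :
    Function.Injective (algebraMap C (Localization.AtPrime p)) :=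
  IsLocalization.injective _ p.primeCompl_le_nonZeroDivisors

theorem toLoc_injective (T : Subalgebra A C) : Function.Injective (toLoc p T) := by
  intro x y hxy
  exact Subtype.ext (algebraMap_loc_injective p hxy)

theorem isUnit_toLoc (T : Subalgebra A C) (h : T) (hh : (h : C) ∉ p)
    (y : Submonoid.powers h) : IsUnit (toLoc p T y) := by
  obtain ⟨y, n, rfl⟩ := y
  rw [map_pow]
  apply IsUnit.pow
  exact IsLocalization.map_units (Localization.AtPrime p) (⟨(h : C), hh⟩ : p.primeCompl)

/-- the map `T[1/h] → C_p` -/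
noncomputable def awayToLoc (T : Subalgebra A C) (h : T) (hh : (h : C) ∉ p) :
    Localization.Away h →ₐ[A] Localization.AtPrime p :=
  IsLocalization.liftAlgHom (M := Submonoid.powers h) (f := toLoc p T) (isUnit_toLoc p T h hh)

theorem awayToLoc_algebraMap (T : Subalgebra A C) (h : T) (hh : (h : C) ∉ p) (t : T) :
    awayToLoc p T h hh (algebraMap T (Localization.Away h) t) =
      algebraMap C (Localization.AtPrime p) (t : C) := by
  rw [awayToLoc, IsLocalization.liftAlgHom_apply, IsLocalization.lift_eq]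
  rfl

theorem awayToLoc_injective (T : Subalgebra A C) (h : T) (hh : (h : C) ∉ p) :
    Function.Injective (awayToLoc p T h hh) := by
  rw [awayToLoc, IsLocalization.coe_liftAlgHom, IsLocalization.lift_injective_iff]
  intro x y
  have h0 : (h : T) ≠ 0 := by
    intro h0
    apply hh
    rw [h0]
    exact p.zero_mem
  have hinj : Function.Injective (algebraMap T (Localization.Away h)) :=
    IsLocalization.injective _ (powers_le_nonZeroDivisors_of_noZeroDivisors h0)
  constructor
  · intro hxy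
    rw [hinj hxy]
  · intro hxy
    rw [toLoc_injective p T hxy]

/-- elements of the range -/
theorem mem_range_awayToLoc_iff (T : Subalgebra A C) (h : T) (hh : (h : C) ∉ p)
    (e : Localization.AtPrime p) :
    e ∈ (awayToLoc p T h hh).range ↔
      ∃ (t : T) (n : ℕ), e * algebraMap C (Localization.AtPrime p) ((h : C) ^ n) =
        algebraMap C (Localization.AtPrime p) (t : C) := by
  constructor
  · rintro ⟨x, rfl⟩
    obtain ⟨t, ⟨_, n, rfl⟩, rfl⟩ := IsLocalization.exists_mk'_eq (Submonoid.powers h) x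
    refine ⟨t, n, ?_⟩
    have h1 : IsLocalization.mk' (Localization.Away h) t
        (⟨h ^ n, n, rfl⟩ : Submonoid.powers h) * algebraMap T (Localization.Away h) (h ^ n) =
        algebraMap T (Localization.Away h) t := IsLocalization.mk'_spec _ _ _
    have h2 := congrArg (awayToLoc p T h hh) h1
    rw [map_mul, awayToLoc_algebraMap, awayToLoc_algebraMap] at h2
    simpa using h2
  · rintro ⟨t, n, hx⟩
    refine ⟨IsLocalization.mk' (Localization.Away h) t
        (⟨h ^ n, n, rfl⟩ : Submonoid.powers h), ?_⟩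
    have h1 : IsLocalization.mk' (Localization.Away h) t
        (⟨h ^ n, n, rfl⟩ : Submonoid.powers h) * algebraMap T (Localization.Away h) (h ^ n) =
        algebraMap T (Localization.Away h) t := IsLocalization.mk'_spec _ _ _
    have h2 := congrArg (awayToLoc p T h hh) h1
    rw [map_mul, awayToLoc_algebraMap, awayToLoc_algebraMap] at h2
    have hu : IsUnit (algebraMap C (Localization.AtPrime p) ((h : C) ^ n)) := by
      rw [map_pow]
      exact (IsLocalization.map_units (Localization.AtPrime p)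
        (⟨(h : C), hh⟩ : p.primeCompl)).pow n
    apply hu.mul_right_cancel
    rw [hx]
    simpa using h2

theorem isIndEtale_localization_of_directed (𝒯 : Set (Subalgebra A C))
    (hne : 𝒯.Nonempty)
    (hdir : ∀ T₁ ∈ 𝒯, ∀ T₂ ∈ 𝒯, ∃ T ∈ 𝒯, T₁ ≤ T ∧ T₂ ≤ T)
    (hcov : ∀ c : C, ∃ T ∈ 𝒯, c ∈ T)
    (het : ∀ T ∈ 𝒯, ∃ g : T, (g : C) ∉ p ∧ Algebra.Etale A (Localization.Away g)) :
    EtPBC.IsIndEtale A (Localization.AtPrime p) := by
  let P : Subalgebra A (Localization.AtPrime p) → Prop := fun S =>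
    ∃ (T : Subalgebra A C) (_ : T ∈ 𝒯) (h : T) (hh : (h : C) ∉ p),
      Algebra.Etale A (Localization.Away h) ∧ S = (awayToLoc p T h hh).range
  -- a common refinement
  have key : ∀ (T₁ : Subalgebra A C) (_ : T₁ ∈ 𝒯) (T₂ : Subalgebra A C) (_ : T₂ ∈ 𝒯)
      (h₁ : T₁) (_ : (h₁ : C) ∉ p) (h₂ : T₂) (_ : (h₂ : C) ∉ p),
      ∃ (T : Subalgebra A C) (_ : T ∈ 𝒯) (h : T) (hh : (h : C) ∉ p) (_ : T₁ ≤ T) (_ : T₂ ≤ T)
        (k : T), (h : C) = (h₁ : C) * (h₂ : C) * (k : C) ∧
        Algebra.Etale A (Localization.Away h) := by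
    intro T₁ hT₁ T₂ hT₂ h₁ hh₁ h₂ hh₂
    obtain ⟨T, hT, h1, h2⟩ := hdir T₁ hT₁ T₂ hT₂
    obtain ⟨g, hg, hget⟩ := het T hT
    let h' : T := ⟨(h₁ : C), h1 h₁.2⟩ * ⟨(h₂ : C), h2 h₂.2⟩
    refine ⟨T, hT, h' * g, ?_, h1, h2, g, ?_, ?_⟩
    · show (h₁ : C) * (h₂ : C) * (g : C) ∉ p
      intro hmem
      rcases Ideal.IsPrime.mem_or_mem inferInstance hmem with hmem | hmem
      · rcases Ideal.IsPrime.mem_or_mem inferInstance hmem with hmem | hmem
        · exact hh₁ hmem
        · exact hh₂ hmem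
      · exact hg hmem
    · rfl
    · exact etale_away_mul g h'
  apply isIndEtale_of_directed_subalgebras (P := P)
  · -- directed
    rintro S₁ S₂ ⟨T₁, hT₁, h₁, hh₁, -, rfl⟩ ⟨T₂, hT₂, h₂, hh₂, -, rfl⟩
    obtain ⟨T, hT, h, hh, h1, h2, k, hk, het'⟩ := key T₁ hT₁ T₂ hT₂ h₁ hh₁ h₂ hh₂
    refine ⟨_, ⟨T, hT, h, hh, het', rfl⟩, ?_, ?_⟩
    · intro e he
      rw [mem_range_awayToLoc_iff] at he ⊢
      obtain ⟨t, n, hx⟩ := he
      refine ⟨⟨(t : C), h1 t.2⟩ * (⟨(h₂ : C), h2 h₂.2⟩ * k) ^ n, n, ?_⟩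
      have : (h : C) ^ n = (h₁ : C) ^ n * ((h₂ : C) * (k : C)) ^ n := by
        rw [hk, mul_assoc, mul_pow]
      rw [this, map_mul, ← mul_assoc, hx, ← map_mul]
      rfl
    · intro e he
      rw [mem_range_awayToLoc_iff] at he ⊢
      obtain ⟨t, n, hx⟩ := he
      refine ⟨⟨(t : C), h2 t.2⟩ * (⟨(h₁ : C), h1 h₁.2⟩ * k) ^ n, n, ?_⟩
      have : (h : C) ^ n = (h₂ : C) ^ n * ((h₁ : C) * (k : C)) ^ n := by
        rw [hk, mul_comm (h₁ : C) (h₂ : C), mul_assoc, mul_pow]
      rw [this, map_mul, ← mul_assoc, hx, ← map_mul]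
      rfl
  · -- covering
    intro e
    obtain ⟨c, s, rfl⟩ := IsLocalization.exists_mk'_eq p.primeCompl e
    obtain ⟨T₁, hT₁, hc⟩ := hcov c
    obtain ⟨T₂, hT₂, hs⟩ := hcov (s : C)
    obtain ⟨T, hT, h, hh, h1, h2, k, hk, het'⟩ := key T₁ hT₁ T₂ hT₂ 1 (by
      simpa using Ideal.IsPrime.one_notMem inferInstance) ⟨(s : C), hs⟩ s.2
    refine ⟨_, ⟨T, hT, h, hh, het', rfl⟩, ?_⟩
    rw [mem_range_awayToLoc_iff]
    refine ⟨⟨c, h1 hc⟩ * k, 1, ?_⟩
    rw [pow_one, hk]
    simp only [OneMemClass.coe_one, one_mul, map_mul, MulMemClass.coe_mul]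
    rw [← mul_assoc, IsLocalization.mk'_spec]
  · -- nonempty
    obtain ⟨T, hT⟩ := hne
    obtain ⟨g, hg, hget⟩ := het T hT
    exact ⟨_, ⟨T, hT, g, hg, hget, rfl⟩⟩
  · -- étale
    rintro S ⟨T, hT, h, hh, het', rfl⟩
    exact Algebra.Etale.of_equiv (AlgEquiv.ofInjective (awayToLoc p T h hh)
      (awayToLoc_injective p T h hh))

end Main

end Groth.Agent.Lib.Helper29.InertiaInd
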