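import Mathlib
import Groth.Prelude.Def_PBC
import Groth.Agent.Lib.Helper29.Inertia.EtaleGen
import Groth.Agent.Lib.Helper29.InertiaInd.LocDirected

/-!
# Inertia invariants of a profinite group action are ind-étale at the prime (helper29)

Let a profinite group `G` act continuously on a domain `B` (discrete) with invariants `A`, let `q`
be a prime of `B` with inertia group `I`.  Then `(B^I)_{q ∩ B^I}` is ind-étale over `A`.
-/

set_option autoImplicit false
set_option linter.unusedSectionVars false
universe u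

namespace Groth.Agent.Lib.Helper29.InertiaInd

open Groth.Agent.Lib.Helper29.InertiaGen

section Transfer

theorem etale_away_transfer {A₁ A₂ T₁ T₂ : Type u} [CommRing A₁] [CommRing A₂] [CommRing T₁]
    [CommRing T₂] [Algebra A₁ T₁] [Algebra A₂ T₂] (ε : A₂ →+* A₁) (hε : Function.Bijective ε)
    (ψ : T₂ ≃+* T₁)
    (hcomm : ∀ a, ψ (algebraMap A₂ T₂ a) = algebraMap A₁ T₁ (ε a)) (g₂ : T₂)
    (h : Algebra.Etale A₁ (Localization.Away (ψ g₂))) :
    Algebra.Etale A₂ (Localization.Away g₂) := by
  have H : (Submonoid.powers g₂).map ψ.toMonoidHom = Submonoid.powers (ψ g₂) := by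
    rw [Submonoid.map_powers]
    rfl
  let Ψ : Localization.Away g₂ ≃+* Localization.Away (ψ g₂) :=
    IsLocalization.ringEquivOfRingEquiv _ _ ψ H
  rw [← RingHom.etale_algebraMap] at h ⊢
  have key : algebraMap A₂ (Localization.Away g₂) =
      (Ψ.symm : _ →+* _).comp ((algebraMap A₁ (Localization.Away (ψ g₂))).comp ε) := by
    ext a
    simp only [RingHom.comp_apply, RingHom.coe_coe]
    rw [RingEquiv.eq_symm_apply]
    rw [IsScalarTower.algebraMap_apply A₂ T₂, IsLocalization.ringEquivOfRingEquiv_eq, hcomm,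
      ← IsScalarTower.algebraMap_apply]
  rw [key]
  apply RingHom.Etale.stableUnderComposition
  · apply RingHom.Etale.stableUnderComposition
    · exact RingHom.Etale.of_bijective hε
    · exact h
  · exact RingHom.Etale.of_bijective Ψ.symm.bijective

end Transfer

section Main

variable {A C B G : Type u} [CommRing A] [CommRing C] [CommRing B] [IsDomain B] [Algebra A C]
  [Algebra A B] [Group G] [MulSemiringAction G B] [SMulCommClass G A B]
  [TopologicalSpace G] [CompactSpace G] [TotallyDisconnectedSpace G] [IsTopologicalGroup G]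
  [TopologicalSpace B] [DiscreteTopology B] [ContinuousSMul G B]
  (q : Ideal B) [q.IsPrime]

/-- the preimage in `G` of the inertia group of `q ∩ B^N` in `G/N` -/
def J (N : OpenNormalSubgroup G) : Subgroup G :=
  (Ideal.inertia (G ⧸ N.1.1) (q.comap (FixedPoints.subring B N.1.1).subtype)).comap
    (QuotientGroup.mk' N.1.1)

theorem mem_J_iff (N : OpenNormalSubgroup G) (σ : G) :
    σ ∈ J q N ↔ ∀ x : B, (∀ n ∈ N.1.1, n • x = x) → σ • x - x ∈ q := by
  rw [J, Subgroup.mem_comap]
  constructor
  · intro h x hx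
    exact h ⟨x, fun n => hx n.1 n.2⟩
  · intro h x
    exact h x.1 (fun n hn => x.2 ⟨n, hn⟩)

theorem le_J (N : OpenNormalSubgroup G) : N.1.1 ≤ J q N := by
  intro n hn
  rw [mem_J_iff]
  intro x hx
  rw [hx n hn, sub_self]
  exact q.zero_mem

theorem inertia_le_J (N : OpenNormalSubgroup G) : q.inertia G ≤ J q N := by
  intro σ hσ
  rw [mem_J_iff]
  intro x _
  exact hσ x

theorem J_mono {N₁ N₂ : OpenNormalSubgroup G} (h : N₁ ≤ N₂) : J q N₁ ≤ J q N₂ := by
  intro σ hσ
  rw [mem_J_iff] at hσ ⊢
  intro x hx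
  exact hσ x (fun n hn => hx n (h hn))

theorem mem_inertia_of_forall_mem_J (σ : G) (h : ∀ N : OpenNormalSubgroup G, σ ∈ J q N) :
    σ ∈ q.inertia G := by
  intro x
  obtain ⟨N, hN⟩ := ProfiniteGrp.exist_openNormalSubgroup_sub_open_nhds_of_one
    (stabilizer_isOpen G x) (one_mem _)
  exact (mem_J_iff q N σ).1 (h N) x (fun n hn => hN hn)

theorem isClosed_J (N : OpenNormalSubgroup G) : IsClosed (J q N : Set G) :=
  Subgroup.isClosed_of_isOpen _ (Subgroup.isOpen_mono (le_J q N) N.1.isOpen')

/-- compactness: an element fixed by the inertia group is fixed by some `J N` -/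
theorem exists_J_le_stabilizer (b : B) (hb : ∀ σ ∈ q.inertia G, σ • b = b) :
    ∃ N : OpenNormalSubgroup G, ∀ σ ∈ J q N, σ • b = b := by
  by_contra hcon
  push Not at hcon
  have hne : Nonempty (OpenNormalSubgroup G) :=
    ⟨(ProfiniteGrp.exist_openNormalSubgroup_sub_open_nhds_of_one (G := G) isOpen_univ
      (Set.mem_univ 1)).choose⟩
  let Y : OpenNormalSubgroup G → Set G := fun N =>
    (J q N : Set G) ∩ (MulAction.stabilizer G b : Set G)ᶜ
  have hY : (⋂ N, Y N).Nonempty := by
    apply IsCompact.nonempty_iInter_of_directed_nonempty_isCompact_isClosed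
    · intro N₁ N₂
      refine ⟨N₁ ⊓ N₂, ?_, ?_⟩
      · exact Set.inter_subset_inter_left _ (J_mono q inf_le_left)
      · exact Set.inter_subset_inter_left _ (J_mono q inf_le_right)
    · intro N
      obtain ⟨σ, hσ, hσb⟩ := hcon N
      exact ⟨σ, hσ, hσb⟩
    · intro N
      exact ((isClosed_J q N).inter (stabilizer_isOpen G b).isClosed_compl).isCompact
    · intro N
      exact (isClosed_J q N).inter (stabilizer_isOpen G b).isClosed_compl
  obtain ⟨σ, hσ⟩ := hY
  rw [Set.mem_iInter] at hσ
  have h1 : σ ∈ q.inertia G := mem_inertia_of_forall_mem_J q σ (fun N => (hσ N).1)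
  obtain ⟨N⟩ := hne
  exact (hσ N).2 (hb σ h1)

/-- the étale step -/
theorem exists_etale_away (f : C →ₐ[A] B) (hf : Function.Injective f)
    (hC : ∀ b : B, b ∈ Set.range f ↔ ∀ σ ∈ q.inertia G, σ • b = b)
    (hinj : Function.Injective (algebraMap A B)) [Algebra.IsInvariant A B G]
    (N : OpenNormalSubgroup G) :
    ∃ g : ((FixedPoints.subalgebra A B (J q N)).comap f : Subalgebra A C),
      (g : C) ∉ q.comap f ∧ Algebra.Etale A (Localization.Away g) := by
  classical
  let R := FixedPoints.subring B N.1.1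
  let Γ := G ⧸ N.1.1
  let qN : Ideal R := q.comap R.subtype
  have hqN : qN.IsPrime := inferInstance
  have hfin : Finite Γ := inferInstance
  obtain ⟨g₀, hg₀, het⟩ := exists_etale_away_inertia (G := Γ) (R := R) qN
  let T := ((FixedPoints.subalgebra A B (J q N)).comap f : Subalgebra A C)
  -- the comparison of the rings of invariants
  have h1 : ∀ t : T, ((f : C →+* B).comp T.subtype) t ∈ R := fun t n => t.2 ⟨n.1, le_J q N n.2⟩
  let ψ₁ : T →+* R := ((f : C →+* B).comp T.subtype).codRestrict R h1
  have h2 : ∀ t : T, ψ₁ t ∈ FixedPoints.subring R (qN.inertia Γ) := by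
    rintro t ⟨i, hi⟩
    obtain ⟨σ, rfl⟩ := QuotientGroup.mk_surjective i
    exact Subtype.ext (t.2 ⟨σ, hi⟩)
  let ψ₀ : T →+* FixedPoints.subring R (qN.inertia Γ) := ψ₁.codRestrict _ h2
  have hψ₀ : ∀ t : T, ((ψ₀ t : R) : B) = f (t : C) := fun t => rfl
  have hbij : Function.Bijective ψ₀ := by
    constructor
    · intro t₁ t₂ h
      apply Subtype.ext
      apply hf
      rw [← hψ₀, ← hψ₀, h]
    · intro y
      have hy : ∀ σ ∈ J q N, σ • ((y : R) : B) = ((y : R) : B) := by
        intro σ hσ
        have := y.2 ⟨QuotientGroup.mk σ, hσ⟩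
        exact congrArg Subtype.val this
      obtain ⟨c, hc⟩ := (hC ((y : R) : B)).2 (fun σ hσ => hy σ (inertia_le_J q N hσ))
      refine ⟨⟨c, ?_⟩, ?_⟩
      · rintro ⟨σ, hσ⟩
        show σ • f c = f c
        rw [hc]
        exact hy σ hσ
      · apply Subtype.ext
        apply Subtype.ext
        exact hc
  let ψ : T ≃+* FixedPoints.subring R (qN.inertia Γ) := RingEquiv.ofBijective ψ₀ hbij
  -- the comparison of the base rings
  have h3 : ∀ a : A, algebraMap A B a ∈ R := by
    intro a n
    rw [Algebra.algebraMap_eq_smul_one, smul_comm, smul_one]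
  let ε₁ : A →+* R := (algebraMap A B).codRestrict R h3
  have h4 : ∀ a : A, ε₁ a ∈ FixedPoints.subring R Γ := by
    intro a i
    obtain ⟨σ, rfl⟩ := QuotientGroup.mk_surjective i
    apply Subtype.ext
    show σ • algebraMap A B a = algebraMap A B a
    rw [Algebra.algebraMap_eq_smul_one, smul_comm, smul_one]
  let ε : A →+* FixedPoints.subring R Γ := ε₁.codRestrict _ h4
  have hε : Function.Bijective ε := by
    constructor
    · intro a₁ a₂ h
      apply hinj
      exact congrArg (fun z : FixedPoints.subring R Γ => ((z : R) : B)) h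
    · intro y
      have hy : ∀ σ : G, σ • ((y : R) : B) = ((y : R) : B) := by
        intro σ
        have := y.2 (QuotientGroup.mk σ : Γ)
        exact congrArg Subtype.val this
      obtain ⟨a, ha⟩ := Algebra.IsInvariant.isInvariant (A := A) (G := G) ((y : R) : B) hy
      refine ⟨a, ?_⟩
      apply Subtype.ext
      apply Subtype.ext
      exact ha
  obtain ⟨g, rfl⟩ := ψ.surjective g₀
  refine ⟨g, hg₀, ?_⟩
  refine etale_away_transfer ε hε ψ ?_ g het
  intro a
  apply Subtype.ext
  apply Subtype.ext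
  show f (algebraMap A C a) = algebraMap A B a
  exact f.commutes a

/-- **Main theorem.**  Let a profinite group `G` act continuously on a domain `B` (with the
discrete topology) with ring of invariants `A ⊆ B`, let `q` be a prime of `B`, and let
`f : C → B` identify `C` with the invariants of the inertia group of `q`.  Then the localisation
of `C` at `q ∩ C` is ind-étale over `A`. -/
theorem isIndEtale_localization_inertia_invariants (f : C →ₐ[A] B) (hf : Function.Injective f)
    (hC : ∀ b : B, b ∈ Set.range f ↔ ∀ σ ∈ q.inertia G, σ • b = b)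
    (hinj : Function.Injective (algebraMap A B)) [Algebra.IsInvariant A B G] :
    EtPBC.IsIndEtale A (Localization.AtPrime (q.comap f)) := by
  have hdom : IsDomain C := hf.isDomain (f : C →+* B)
  have hne : Nonempty (OpenNormalSubgroup G) :=
    ⟨(ProfiniteGrp.exist_openNormalSubgroup_sub_open_nhds_of_one (G := G) isOpen_univ
      (Set.mem_univ 1)).choose⟩
  apply isIndEtale_localization_of_directed (q.comap f)
    (Set.range fun N : OpenNormalSubgroup G =>
      ((FixedPoints.subalgebra A B (J q N)).comap f : Subalgebra A C))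
  · exact Set.range_nonempty _
  · rintro _ ⟨N₁, rfl⟩ _ ⟨N₂, rfl⟩
    refine ⟨_, ⟨N₁ ⊓ N₂, rfl⟩, ?_, ?_⟩
    · rintro c hc ⟨σ, hσ⟩
      exact hc ⟨σ, J_mono q inf_le_left hσ⟩
    · rintro c hc ⟨σ, hσ⟩
      exact hc ⟨σ, J_mono q inf_le_right hσ⟩
  · intro c
    obtain ⟨N, hN⟩ := exists_J_le_stabilizer q (f c) ((hC (f c)).1 ⟨c, rfl⟩)
    refine ⟨_, ⟨N, rfl⟩, ?_⟩
    rintro ⟨σ, hσ⟩
    exact hN σ hσ
  · rintro _ ⟨N, rfl⟩
    exact exists_etale_away q f hf hC hinj N

end Main

end Groth.Agent.Lib.Helper29.InertiaInd
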