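import Mathlib
import Groth.Prelude.Def_PBC
import Groth.Agent.Lib.Helper29.InertiaInd.Profinite

/-!
# The inertia invariants of the integral closure in a Galois extension (helper29)
-/

set_option autoImplicit false
set_option linter.unusedSectionVars false
universe u

namespace Groth.Agent.Lib.Helper29.InertiaInd

section Galois

variable (A K L : Type u) [CommRing A] [IsDomain A] [IsIntegrallyClosed A]
  [Field K] [Field L] [Algebra A K] [IsFractionRing A K] [Algebra K L] [Algebra A L]
  [IsScalarTower A K L] [IsGalois K L]

/-- the action of the Galois group on the integral closure -/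
@[reducible] noncomputable def galAction :
    MulSemiringAction (L ≃ₐ[K] L) (integralClosure A L) where
  smul σ x := ⟨σ x.1, x.2.map σ⟩
  one_smul _ := Subtype.ext rfl
  mul_smul _ _ _ := Subtype.ext rfl
  smul_zero σ := Subtype.ext (map_zero σ)
  smul_add σ _ _ := Subtype.ext (map_add σ _ _)
  smul_one σ := Subtype.ext (map_one σ)
  smul_mul σ _ _ := Subtype.ext (map_mul σ _ _)

attribute [local instance] galAction

theorem coe_galAction_smul (σ : L ≃ₐ[K] L) (x : integralClosure A L) :
    ((σ • x : integralClosure A L) : L) = σ (x : L) := rfl

theorem galAction_smulCommClass : SMulCommClass (L ≃ₐ[K] L) A (integralClosure A L) where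
  smul_comm σ a x := by
    apply Subtype.ext
    show σ (a • (x : L)) = a • σ (x : L)
    rw [← IsScalarTower.algebraMap_smul K a (x : L), map_smul, IsScalarTower.algebraMap_smul]

theorem galAction_isInvariant : Algebra.IsInvariant A (integralClosure A L) (L ≃ₐ[K] L) where
  isInvariant b hb := by
    have h1 : (b : L) ∈ Set.range (algebraMap K L) := by
      rw [InfiniteGalois.mem_range_algebraMap_iff_fixed]
      intro σ
      exact congrArg Subtype.val (hb σ)
    obtain ⟨y, hy⟩ := h1
    have h2 : IsIntegral A y := by
      have := b.2
      rw [← hy] at this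
      exact (isIntegral_algebraMap_iff (algebraMap K L).injective).1 this
    obtain ⟨a, ha⟩ := IsIntegrallyClosed.isIntegral_iff.1 h2
    refine ⟨a, ?_⟩
    apply Subtype.ext
    show algebraMap A L a = (b : L)
    rw [IsScalarTower.algebraMap_apply A K L, ha, hy]

theorem galAction_stabilizer_isOpen (b : integralClosure A L) :
    IsOpen (MulAction.stabilizer (L ≃ₐ[K] L) b : Set (L ≃ₐ[K] L)) := by
  have h := stabilizer_isOpen_of_isIntegral (K := K) (L := L) (b : L)
  convert h using 1
  ext σ
  simp only [SetLike.mem_coe, MulAction.mem_stabilizer_iff]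
  constructor
  · intro h
    exact congrArg Subtype.val h
  · intro h
    exact Subtype.ext h

include K in
theorem algebraMap_integralClosure_injective :
    Function.Injective (algebraMap A (integralClosure A L)) := by
  intro a₁ a₂ h
  have h1 : algebraMap A L a₁ = algebraMap A L a₂ := congrArg Subtype.val h
  rw [IsScalarTower.algebraMap_apply A K L, IsScalarTower.algebraMap_apply A K L] at h1
  exact IsFractionRing.injective A K ((algebraMap K L).injective h1)

/-- **SGA 1 V / Stacks-type statement**: the localisation of the inertia invariants of the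
integral closure is ind-étale. -/
theorem isIndEtale_localization_inertiaInvariants
    (q : Ideal (integralClosure A L)) [q.IsPrime]
    (I : Subgroup (L ≃ₐ[K] L))
    (hI : ∀ σ : L ≃ₐ[K] L, σ ∈ I ↔ ∀ b : integralClosure A L, ∃ c ∈ q, (c : L) = σ b - b) :
    EtPBC.IsIndEtale A (Localization.AtPrime
      (q.comap (Subalgebra.inclusion
        (inf_le_left : integralClosure A L ⊓
          (IntermediateField.fixedField I).toSubalgebra.restrictScalars A ≤
          integralClosure A L)))) := by
  let _ : TopologicalSpace (integralClosure A L) := ⊥
  have : DiscreteTopology (integralClosure A L) := ⟨rfl⟩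
  have : SMulCommClass (L ≃ₐ[K] L) A (integralClosure A L) := galAction_smulCommClass A K L
  have : Algebra.IsInvariant A (integralClosure A L) (L ≃ₐ[K] L) := galAction_isInvariant A K L
  have : ContinuousSMul (L ≃ₐ[K] L) (integralClosure A L) :=
    continuousSMul_iff_stabilizer_isOpen.2 (galAction_stabilizer_isOpen A K L)
  have hIq : I = q.inertia (L ≃ₐ[K] L) := by
    ext σ
    rw [hI]
    constructor
    · intro h b
      obtain ⟨c, hc, hcb⟩ := h b
      have : c = σ • b - b := Subtype.ext hcb
      rw [← this]
      exact hc
    · intro h b
      exact ⟨σ • b - b, h b, rfl⟩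
  apply isIndEtale_localization_inertia_invariants (G := L ≃ₐ[K] L) q
  · exact Subalgebra.inclusion_injective _
  · intro b
    rw [← hIq]
    constructor
    · rintro ⟨c, rfl⟩ σ hσ
      have hc : ((c : L)) ∈ (IntermediateField.fixedField I) := c.2.2
      apply Subtype.ext
      exact hc ⟨σ, hσ⟩
    · intro h
      refine ⟨⟨(b : L), b.2, ?_⟩, rfl⟩
      rintro ⟨σ, hσ⟩
      exact congrArg Subtype.val (h σ hσ)
  · exact algebraMap_integralClosure_injective A K L

end Galois

end Groth.Agent.Lib.Helper29.InertiaInd
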